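import Mathlib
import Cfsg.Prelude.Def_Blocks
import Cfsg.Prelude.Def_Local
import Cfsg.Agent.Characters.Core
import Cfsg.Agent.Blocks.Basic
import Cfsg.Agent.H594.ClassCount
import Cfsg.Agent.H402.CsCover
import Cfsg.Agent.H710.PPrimeDeg
import Cfsg.Agent.S4444
import Cfsg.Agent.S4449
import Cfsg.Agent.S0023
import Cfsg.Agent.S0024
import Cfsg.Agent.S0136
import Cfsg.Agent.S0854
import Cfsg.Agent.Lib.PSolvable
set_option linter.all false

/-!
# A coprime version of Ito's theorem (helper699)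

`S` is a `p`-group acting on the `p'`-group `H` (`H` normal in the `q`-solvable group `Γ`), `Q` a
Sylow `q`-subgroup of `H` centralized by `S`.  If the `S`-invariant irreducible characters of `H`
have degree prime to `q`, then `C_H(S)` normalizes `Q`.

* `inertia_index_dvd`, `relIndex_dvd`: the index of the inertia group divides the degree;
* `le_centralizer_of_irr`: a coprime operator group fixing all irreducible characters is trivial;
* `main`.
-/

set_option autoImplicit false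

namespace Cfsg.Agent.H699.CoprimeIto

open Cfsg Cfsg.Agent.Characters.Core Cfsg.Agent.Blocks

universe u

/-- An irreducible character of `K` as a character of `K` inside `X`. -/
theorem isIrr_subgroupOf {Γ : Type*} [Group Γ] {K X : Subgroup Γ} (hKX : K ≤ X) {θ : K → ℂ}
    (hθ : IsIrrCharacter K θ) :
    IsIrrCharacter ↥(K.subgroupOf X) (fun n => θ ⟨(n : X), n.2⟩) :=
  isIrr_comp (Subgroup.subgroupOfEquivOfLe hKX).toMonoidHom
    (Subgroup.subgroupOfEquivOfLe hKX).surjective hθ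

/-- The index of the inertia group divides the degrees of the characters above. -/
theorem inertia_index_dvd {G : Type*} [Group G] [Fintype G] (N : Subgroup G) [hN : N.Normal]
    [Fintype N] (θ : N → ℂ) (hθ : IsIrrCharacter N θ) (T : Subgroup G)
    (hT : ∀ g : G, g ∈ T ↔ ∀ n : N, θ ⟨g * n * g⁻¹, hN.conj_mem (n : G) n.2 g⟩ = θ n)
    (χ : G → ℂ) (hχ : IsIrrCharacter G χ) (hover : classInner (fun n : N => χ n) θ ≠ 0) :
    T.index ∣ charDegree χ := by
  classical
  have := Fintype.ofFinite T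
  have hNT : N ≤ T := by
    intro x hx
    rw [hT]
    intro n
    exact isIrr_isClassFunction hθ n ⟨x, hx⟩
  obtain ⟨ψ, hψ, hind, -⟩ := S0854.result N θ hθ T hT hNT χ hχ hover
  have h1 : indFun T ψ 1 = ((T.index * charDegree ψ : ℕ) : ℂ) := by
    rw [indFun_apply]
    have h1 : ∀ x : G, extendByZero T ψ (x⁻¹ * 1 * x) = charDegree ψ := by
      intro x
      rw [mul_one, inv_mul_cancel, extendByZero_of_mem T _ T.one_mem]
      exact Basic.irr_one_eq_charDegree hψ
    rw [Finset.sum_congr rfl fun x _ => h1 x, Finset.sum_const, Finset.card_univ, nsmul_eq_mul,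
      ← Nat.card_eq_fintype_card, ← T.card_mul_index]
    have hc : (Nat.card T : ℂ) ≠ 0 := by exact_mod_cast Nat.card_pos.ne'
    push_cast
    field_simp
  rw [hind] at h1
  rw [Basic.charDegree_of_eq h1]
  exact Dvd.intro _ rfl

/-- The index of the inertia group divides the degrees of the characters above, for subgroups
`K ≤ H` of a group. -/
theorem relIndex_dvd {Γ : Type*} [Group Γ] [Finite Γ] {K H : Subgroup Γ} [Fintype K]
    (hKH : K ≤ H) (hn : ∀ h ∈ H, ∀ k ∈ K, h * k * h⁻¹ ∈ K) (θ : IrrCharacter K)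
    (χ : IrrCharacter H)
    (hover : classInner (fun n : K => (χ : H → ℂ) ⟨n, hKH n.2⟩) (θ : K → ℂ) ≠ 0)
    (T : Subgroup Γ)
    (hT : ∀ h ∈ H, h ∈ T ↔ ∀ k k' : K, (k' : Γ) = h * k * h⁻¹ → (θ : K → ℂ) k' = (θ : K → ℂ) k) :
    T.relIndex H ∣ charDegree (χ : H → ℂ) := by
  classical
  have := Fintype.ofFinite Γ
  have := Fintype.ofFinite H
  have hN : (K.subgroupOf H).Normal := ⟨fun n hn' g => hn g g.2 n hn'⟩
  have := Fintype.ofFinite (K.subgroupOf H)
  refine inertia_index_dvd (K.subgroupOf H) _ (isIrr_subgroupOf hKH θ.2) (T.subgroupOf H) ?_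
    (χ : H → ℂ) χ.2 ?_
  · intro g
    rw [Subgroup.mem_subgroupOf, hT g g.2]
    constructor
    · intro h n
      exact h ⟨(n : H), n.2⟩ _ rfl
    · intro h k k' hk
      have := h ⟨⟨k, hKH k.2⟩, k.2⟩
      have e : k' = ⟨(g : Γ) * k * (g : Γ)⁻¹, hn g g.2 k k.2⟩ := Subtype.ext hk
      rw [e]
      exact this
  · intro h0
    apply hover
    rw [classInner_def] at h0 ⊢
    have e1 : Nat.card ↥(K.subgroupOf H) = Nat.card K :=
      Nat.card_congr (Subgroup.subgroupOfEquivOfLe hKH).toEquiv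
    rw [e1] at h0
    rw [← h0]
    congr 1
    exact (Fintype.sum_equiv (Subgroup.subgroupOfEquivOfLe hKH).toEquiv _ _ fun x => rfl).symm

/-- A coprime operator group fixing all irreducible characters centralizes. -/
theorem le_centralizer_of_irr {Γ : Type*} [Group Γ] [Finite Γ] (D A : Subgroup Γ)
    (hnorm : ∀ s ∈ A, ∀ g ∈ D, s * g * s⁻¹ ∈ D) (hcop : (Nat.card D).Coprime (Nat.card A))
    (hsolv : Group.IsSolvable A)
    (h : ∀ β : IrrCharacter D, ∀ s ∈ A, ∀ g g' : D, (g' : Γ) = s * g * s⁻¹ →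
      (β : D → ℂ) g' = (β : D → ℂ) g) : A ≤ Subgroup.centralizer (D : Set Γ) := by
  have key : ∀ d : D, ∃ x : D, x⁻¹ * d * x ∈ (Subgroup.centralizer (A : Set Γ)).subgroupOf D := by
    intro d
    obtain ⟨k, hk, hk2⟩ := H594.ClassCount.exists_mem_C hnorm hcop (Or.inl hsolv) (d : Γ) (by
      intro s hs
      have h1 : IsConj (⟨s * d * s⁻¹, hnorm s hs d d.2⟩ : D) d := by
        rw [S0136.result]
        intro β
        exact h β s hs d _ rfl
      rw [isConj_comm, isConj_iff] at h1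
      obtain ⟨c, hc⟩ := h1
      exact ⟨c, c.2, (congrArg Subtype.val hc).symm⟩)
    refine ⟨⟨k, hk⟩⁻¹, ?_⟩
    rw [Subgroup.mem_subgroupOf, Subgroup.mem_centralizer_iff]
    intro s hs
    have h2 := hk2 s hs
    have h3 : (((⟨k, hk⟩⁻¹ : D)⁻¹ * d * (⟨k, hk⟩⁻¹ : D) : D) : Γ) = k * d * k⁻¹ := by
      push_cast; rw [inv_inv]
    rw [h3]
    calc s * (k * d * k⁻¹) = (s * (k * d * k⁻¹) * s⁻¹) * s := by group
      _ = _ := by rw [h2]
  have h1 := H402.eq_top_of_meets _ key
  rw [Subgroup.subgroupOf_eq_top] at h1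
  rwa [Subgroup.le_centralizer_iff]

section step

variable {Γ : Type*} [Group Γ] [Finite Γ] {p q : ℕ} [Fact p.Prime] [Fact q.Prime]

/-- `S`-invariance of a function on a subgroup. -/
def SInv (S K : Subgroup Γ) (θ : K → ℂ) : Prop :=
  ∀ s ∈ S, ∀ g g' : K, (g' : Γ) = s * g * s⁻¹ → θ g' = θ g

/-- Step 1: `S`-invariant characters of `K` are `Q`-invariant. -/
theorem step_one (H S K Q : Subgroup Γ) [H.Normal] [K.Normal] (hKH : K ≤ H) (hS : IsPGroup p S)
    (hpH : ¬ p ∣ Nat.card H) (hQH : Q ≤ H) (hQ : IsPGroup q Q) (hQi : ¬ q ∣ Q.relIndex H)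
    (hSQ : Q ≤ Subgroup.centralizer (S : Set Γ))
    (hdeg : ∀ θ : IrrCharacter H, SInv S H θ → ¬ q ∣ charDegree (θ : H → ℂ))
    (hnorm : H ⊓ Subgroup.centralizer (S : Set Γ) ≤ Subgroup.normalizer ((Q ⊔ K : Subgroup Γ) : Set Γ))
    (θ : IrrCharacter K) (hθ : SInv S K θ) : SInv Q K θ := by
  classical
  have hpP : p.Prime := Fact.out
  have hqP : q.Prime := Fact.out
  have hHn : H.Normal := inferInstance
  have hKn : K.Normal := inferInstance
  have := Fintype.ofFinite Γ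
  have := Fintype.ofFinite H
  have := Fintype.ofFinite K
  have hcop : (Nat.card H).Coprime (Nat.card S) := by
    obtain ⟨n, hn⟩ := IsPGroup.iff_card.1 hS
    rw [hn]
    exact Nat.Coprime.pow_right n ((hpP.coprime_iff_not_dvd.2 hpH).symm)
  have hsolvS : Group.IsSolvable S := by
    have : Group.IsNilpotent S := hS.isNilpotent
    infer_instance
  obtain ⟨χ, hover, hχ⟩ := S4449.result H S K (fun s _ g hg => hHn.conj_mem g hg s) hKH
    (fun g _ n hn => hKn.conj_mem n hn g) (fun s _ n hn => hKn.conj_mem n hn s) hcop hsolvS θ hθ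
  have hχq := hdeg χ hχ
  -- the inertia group
  let T : Subgroup Γ :=
    { carrier := {h | h ∈ H ∧ ∀ k k' : K, (k' : Γ) = h * k * h⁻¹ → (θ : K → ℂ) k' = (θ : K → ℂ) k}
      one_mem' := ⟨H.one_mem, fun k k' hk => by
        rw [one_mul, inv_one, mul_one] at hk; rw [Subtype.ext hk]⟩
      mul_mem' := fun {a b} ha hb => ⟨H.mul_mem ha.1 hb.1, fun k k' hk => by
        rw [← hb.2 k ⟨b * k * b⁻¹, hKn.conj_mem k k.2 b⟩ rfl]
        exact ha.2 _ k' (by rw [hk]; push_cast; group)⟩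
      inv_mem' := fun {a} ha => ⟨H.inv_mem ha.1, fun k k' hk => by
        refine (ha.2 k' k ?_).symm
        rw [hk]; group⟩ }
  have hTH : T ≤ H := fun x hx => hx.1
  have hTmem : ∀ h ∈ H, h ∈ T ↔ ∀ k k' : K, (k' : Γ) = h * k * h⁻¹ →
      (θ : K → ℂ) k' = (θ : K → ℂ) k := fun h hh => ⟨fun h1 => h1.2, fun h1 => ⟨hh, h1⟩⟩
  have hidx : ¬ q ∣ T.relIndex H := fun hd => hχq (hd.trans
    (relIndex_dvd hKH (fun h _ k hk => hKn.conj_mem k hk h) θ χ hover T hTmem))
  have hST : S ≤ Subgroup.normalizer (T : Set Γ) := by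
    have hle : ∀ s ∈ S, ∀ t ∈ T, s * t * s⁻¹ ∈ T := by
      intro s hs t ht
      refine ⟨hHn.conj_mem t ht.1 s, fun k k' hk => ?_⟩
      have h1 := hθ s⁻¹ (S.inv_mem hs) k ⟨s⁻¹ * k * s⁻¹⁻¹, hKn.conj_mem k k.2 s⁻¹⟩ rfl
      rw [← h1]
      have h2 := ht.2 ⟨s⁻¹ * k * s⁻¹⁻¹, hKn.conj_mem k k.2 s⁻¹⟩
        ⟨t * (s⁻¹ * k * s⁻¹⁻¹) * t⁻¹, hKn.conj_mem _ (hKn.conj_mem k k.2 s⁻¹) t⟩ rfl
      rw [← h2]
      refine hθ s hs _ k' ?_
      rw [hk]; push_cast; group
    intro s hs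
    rw [Subgroup.mem_normalizer_iff]
    intro t
    refine ⟨hle s hs t, fun ht => ?_⟩
    have := hle s⁻¹ (S.inv_mem hs) _ ht
    simpa [mul_assoc] using this
  have hcopT : (Nat.card S).Coprime (Nat.card T) :=
    (hcop.coprime_dvd_left (Subgroup.card_dvd_of_le hTH)).symm
  obtain ⟨R, hR⟩ := S0023.result S T hST hcopT (Or.inl hsolvS) q
  set Q0 : Subgroup Γ := (R : Subgroup T).map T.subtype with hQ0
  have hQ0T : Q0 ≤ T := Subgroup.map_subtype_le _
  have hQ0H : Q0 ≤ H := hQ0T.trans hTH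
  have hQ0q : IsPGroup q Q0 := R.2.map _
  have hQ0i : ¬ q ∣ Q0.relIndex H := by
    rw [← Subgroup.relIndex_mul_relIndex Q0 T H hQ0T hTH]
    intro hd
    rcases hqP.dvd_mul.1 hd with h | h
    · apply R.not_dvd_index
      have : Q0.relIndex T = (R : Subgroup T).index := by
        rw [Subgroup.relIndex, hQ0, Subgroup.subgroupOf, Subgroup.comap_map_eq_self_of_injective
          (Subgroup.subtype_injective _)]
      rwa [this] at h
    · exact hidx h
  have hsyl : ∀ U : Subgroup Γ, U ≤ H → IsPGroup q U → ¬ q ∣ U.relIndex H →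
      ∃ P : Sylow q H, (P : Subgroup H).map H.subtype = U := by
    intro U hUH hU hUi
    have h1 : IsPGroup q (U.subgroupOf H) := hU.comap_subtype
    refine ⟨h1.toSylow hUi, ?_⟩
    show (U.subgroupOf H).map H.subtype = U
    rw [Subgroup.subgroupOf_map_subtype, inf_eq_left.2 hUH]
  obtain ⟨P1, hP1⟩ := hsyl Q hQH hQ hQi
  obtain ⟨P2, hP2⟩ := hsyl Q0 hQ0H hQ0q hQ0i
  have hSH : S ≤ Subgroup.normalizer (H : Set Γ) := by
    rw [Subgroup.normalizer_eq_top]; exact le_top
  have hSQn : S ≤ Subgroup.normalizer (Q : Set Γ) := by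
    refine le_trans ?_ (Subgroup.centralizer_le_normalizer _)
    rwa [Subgroup.le_centralizer_iff]
  obtain ⟨c, hc, hcP⟩ := S0024.result S H hSH hcop.symm (Or.inl hsolvS) q P1 P2
    (by rw [hP1]; exact hSQn) (by rw [hP2]; exact hR)
  have hcn : (c : Γ) ∈ Subgroup.normalizer ((Q ⊔ K : Subgroup Γ) : Set Γ) := hnorm ⟨c.2, hc⟩
  -- `Q ≤ Q0 ⊔ K ≤ T`
  have hKT : K ≤ T := by
    intro x hx
    refine ⟨hKH hx, fun k k' hk => ?_⟩
    have h1 := isIrr_isClassFunction θ.2 k ⟨x, hx⟩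
    have e : k' = ⟨x, hx⟩ * k * ⟨x, hx⟩⁻¹ := Subtype.ext hk
    rw [e]
    exact h1
  have hconj : ∀ y ∈ Q, (c : Γ) * y * (c : Γ)⁻¹ ∈ Q0 := by
    intro y hy
    rw [← hP1] at hy
    obtain ⟨y', hy', rfl⟩ := hy
    rw [← hP2, ← hcP]
    refine ⟨c * y' * c⁻¹, ?_, rfl⟩
    exact ⟨y', hy', rfl⟩
  have hle : Q ≤ T := by
    have h1 : (Q ⊔ K).map (MulAut.conj (c : Γ)).toMonoidHom ≤ Q0 ⊔ K := by
      rw [Subgroup.map_sup]
      refine sup_le_sup ?_ ?_
      · rintro _ ⟨y, hy, rfl⟩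
        exact hconj y hy
      · rintro _ ⟨y, hy, rfl⟩
        exact hKn.conj_mem y hy c
    have h2 : Q ≤ (Q ⊔ K).map (MulAut.conj (c : Γ)).toMonoidHom := by
      intro y hy
      refine ⟨(c : Γ)⁻¹ * y * (c : Γ), ?_, ?_⟩
      · have h3 := (Subgroup.mem_normalizer_iff.1 ((Subgroup.normalizer _).inv_mem hcn) y).1
          (le_sup_left (a := Q) (b := K) hy)
        rwa [inv_inv] at h3
      · show (c : Γ) * ((c : Γ)⁻¹ * y * (c : Γ)) * (c : Γ)⁻¹ = y
        group
    exact (h2.trans h1).trans (sup_le hQ0T hKT)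
  intro y hy k k' hk
  exact (hle hy).2 k k' hk

/-- Step 2: if all `S`-invariant characters of the normal `q'`-subgroup `K` are `Q`-invariant then
`Q` centralizes `C_K(S)`. -/
theorem step_two (S K Q : Subgroup Γ) [K.Normal] (hS : IsPGroup p S)
    (hpK : ¬ p ∣ Nat.card K) (hQ : IsPGroup q Q) (hqK : ¬ q ∣ Nat.card K)
    (hSQ : Q ≤ Subgroup.centralizer (S : Set Γ))
    (h : ∀ θ : IrrCharacter K, SInv S K θ → SInv Q K θ) :
    Q ≤ Subgroup.centralizer ((K ⊓ Subgroup.centralizer (S : Set Γ) : Subgroup Γ) : Set Γ) := by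
  classical
  have hpP : p.Prime := Fact.out
  have hqP : q.Prime := Fact.out
  have hKn : K.Normal := inferInstance
  have := Fintype.ofFinite Γ
  have := Fintype.ofFinite K
  set D : Subgroup Γ := K ⊓ Subgroup.centralizer (S : Set Γ) with hD
  have := Fintype.ofFinite D
  have hDK : D ≤ K := inf_le_left
  have hcop : (Nat.card K).Coprime (Nat.card S) := by
    obtain ⟨n, hn⟩ := IsPGroup.iff_card.1 hS
    rw [hn]
    exact Nat.Coprime.pow_right n ((hpP.coprime_iff_not_dvd.2 hpK).symm)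
  obtain ⟨h1, -, -, h4⟩ := S4444.result K S (fun s _ g hg => hKn.conj_mem g hg s) hcop p hpP hS D
    rfl hDK
  have hnorm : ∀ s ∈ Q, ∀ g ∈ D, s * g * s⁻¹ ∈ D := by
    intro s hs g hg
    exact ⟨hKn.conj_mem g hg.1 s, (Subgroup.centralizer (S : Set Γ)).mul_mem
      ((Subgroup.centralizer (S : Set Γ)).mul_mem (hSQ hs) hg.2)
      ((Subgroup.centralizer (S : Set Γ)).inv_mem (hSQ hs))⟩
  have hcopD : (Nat.card D).Coprime (Nat.card Q) := by
    obtain ⟨n, hn⟩ := IsPGroup.iff_card.1 hQ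
    rw [hn]
    exact Nat.Coprime.pow_right n ((hqP.coprime_iff_not_dvd.2 fun hd =>
      hqK (hd.trans (Subgroup.card_dvd_of_le hDK))).symm)
  have hsolvQ : Group.IsSolvable Q := by
    have : Group.IsNilpotent Q := hQ.isNilpotent
    infer_instance
  refine le_centralizer_of_irr D Q hnorm hcopD hsolvQ fun β y hy => ?_
  -- the conjugate of `β`
  let e : D ≃* D :=
    { toFun := fun d => ⟨y * d * y⁻¹, hnorm y hy d d.2⟩
      invFun := fun d => ⟨y⁻¹ * d * y, by
        have := hnorm y⁻¹ (Q.inv_mem hy) d d.2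
        rwa [inv_inv] at this⟩
      left_inv := fun d => Subtype.ext (by show y⁻¹ * (y * d * y⁻¹) * y = d; group)
      right_inv := fun d => Subtype.ext (by show y * (y⁻¹ * d * y) * y⁻¹ = d; group)
      map_mul' := fun a b => Subtype.ext (by
        show y * (a * b) * y⁻¹ = (y * a * y⁻¹) * (y * b * y⁻¹); group) }
  have hβ' : IsIrrCharacter D ((β : D → ℂ) ∘ e) :=
    isIrr_comp e.toMonoidHom e.surjective β.2
  obtain ⟨χ, hχ, m, hm, hpm⟩ := h4 β
  have hχQ := h χ hχ
  obtain ⟨γ, -, huniq⟩ := h1 χ hχ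
  have e1 : β = γ := huniq β ⟨m, hm, hpm⟩
  have e2 : (⟨_, hβ'⟩ : IrrCharacter D) = γ := by
    refine huniq _ ⟨m, ?_, hpm⟩
    rw [← hm, classInner_def, classInner_def]
    congr 1
    refine Fintype.sum_equiv e.toEquiv _ _ fun d => ?_
    show (χ : K → ℂ) ⟨d, _⟩ * _ = (χ : K → ℂ) ⟨y * d * y⁻¹, _⟩ * _
    rw [hχQ y hy ⟨d, hDK d.2⟩ ⟨y * d * y⁻¹, hDK (hnorm y hy d d.2)⟩ rfl]
    rfl
  intro g g' hg
  have h5 := congrFun (congrArg Subtype.val (e1.trans e2.symm)) g
  have h6 : e g = g' := Subtype.ext hg.symm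
  rw [← h6]
  exact h5.symm

end step

/-- **Coprime Ito.** -/
theorem main (p q : ℕ) [Fact p.Prime] [Fact q.Prime] : ∀ (n : ℕ) (Γ : Type u) [Group Γ] [Finite Γ]
    (H S Q : Subgroup Γ) [H.Normal], Nat.card H = n → IsPSolvable q Γ → IsPGroup p S →
    ¬ p ∣ Nat.card H → Q ≤ H → IsPGroup q Q → ¬ q ∣ Q.relIndex H →
    Q ≤ Subgroup.centralizer (S : Set Γ) →
    (∀ θ : IrrCharacter H, SInv S H θ → ¬ q ∣ charDegree (θ : H → ℂ)) →
    H ⊓ Subgroup.centralizer (S : Set Γ) ≤ Subgroup.normalizer (Q : Set Γ) := by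
  classical
  intro n
  induction n using Nat.strong_induction_on with
  | _ n ih =>
  intro Γ _ _ H S Q hHn hcard hsep hS hpH hQH hQ hQi hSQ hdeg
  have hqP : q.Prime := Fact.out
  have hpP : p.Prime := Fact.out
  by_cases hbot : H = ⊥
  · rw [hbot]; intro x hx
    rw [Subgroup.mem_bot.1 hx.1]; exact Subgroup.one_mem _
  obtain ⟨K, hKn, hK0, hKH, hKor⟩ := Lib.PSolvable.sep_of_pSolvable q hsep ⊥ H inferInstance
    inferInstance (bot_lt_iff_ne_bot.2 hbot)
  rw [Subgroup.relIndex_bot_left] at hKor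
  let f : Γ →* Γ ⧸ K := QuotientGroup.mk' K
  have hf : Function.Surjective f := QuotientGroup.mk'_surjective K
  have hker : f.ker = K := QuotientGroup.ker_mk' K
  have hHn' : (H.map f).Normal := hHn.map f hf
  have hcardlt : Nat.card (H.map f) < n := by
    rw [← hcard]
    have h1 := Subgroup.relIndex_ker (K := H) f
    rw [← h1, hker]
    have h2 : Nat.card K * K.relIndex H = Nat.card H := by
      have := Subgroup.relIndex_mul_relIndex ⊥ K H bot_le hKH
      rwa [Subgroup.relIndex_bot_left, Subgroup.relIndex_bot_left] at this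
    have h3 : 1 < Nat.card K := by
      by_contra h4
      have h5 : Nat.card K = 1 := le_antisymm (not_lt.1 h4) Nat.card_pos
      exact hK0.ne' (Subgroup.card_eq_one.1 h5)
    have h6 : 0 < K.relIndex H := by
      refine Nat.pos_of_ne_zero fun h0 => ?_
      rw [h0, mul_zero] at h2
      exact Nat.card_pos.ne h2
    rw [← h2]
    nlinarith
  have hsep' : IsPSolvable q (Γ ⧸ K) := Lib.PSolvable.IsPSolvable_of_surjective q hsep f hf
  have hQi' : ¬ q ∣ (Q.map f).relIndex (H.map f) := by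
    rw [Subgroup.relIndex_map_map, hker, sup_eq_left.2 hKH]
    exact fun hd => hQi (hd.trans (Subgroup.relIndex_dvd_of_le_left _ le_sup_left))
  have hSQ' : Q.map f ≤ Subgroup.centralizer ((S.map f : Subgroup (Γ ⧸ K)) : Set (Γ ⧸ K)) := by
    rintro _ ⟨y, hy, rfl⟩
    rw [Subgroup.mem_centralizer_iff]
    rintro _ ⟨s, hs, rfl⟩
    rw [← map_mul, ← map_mul, Subgroup.mem_centralizer_iff.1 (hSQ hy) s hs]
  have hdeg' : ∀ θ : IrrCharacter (H.map f), SInv (S.map f) (H.map f) θ →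
      ¬ q ∣ charDegree (θ : H.map f → ℂ) := by
    intro θ' hθ'
    have hirr : IsIrrCharacter H ((θ' : H.map f → ℂ) ∘ (f.subgroupMap H)) :=
      isIrr_comp (f.subgroupMap H) (f.subgroupMap_surjective H) θ'.2
    have h1 := hdeg ⟨_, hirr⟩ (by
      intro s hs g g' hg
      refine hθ' (f s) ⟨s, hs, rfl⟩ (f.subgroupMap H g) (f.subgroupMap H g') ?_
      show f (g' : Γ) = f s * f (g : Γ) * (f s)⁻¹
      rw [hg, map_mul, map_mul, map_inv])
    have h2 : charDegree ((θ' : H.map f → ℂ) ∘ (f.subgroupMap H)) =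
        charDegree (θ' : H.map f → ℂ) := H710.PPrimeDeg.charDegree_comp _ _
    rw [← h2]
    exact h1
  have hIH := ih (Nat.card (H.map f)) hcardlt (Γ ⧸ K) (H.map f) (S.map f) (Q.map f) rfl hsep'
    (hS.map f) (fun hd => hpH (hd.trans (Subgroup.card_map_dvd H f)))
    (Subgroup.map_mono hQH) (hQ.map f) hQi' hSQ' hdeg'
  have hmem : ∀ y : Γ, y ∈ Q ⊔ K ↔ f y ∈ Q.map f := by
    intro y
    rw [← Subgroup.mem_comap, Subgroup.comap_map_eq, hker]
  have hnorm : H ⊓ Subgroup.centralizer (S : Set Γ) ≤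
      Subgroup.normalizer ((Q ⊔ K : Subgroup Γ) : Set Γ) := by
    intro c hc
    have h1 : f c ∈ Subgroup.normalizer ((Q.map f : Subgroup (Γ ⧸ K)) : Set (Γ ⧸ K)) := by
      refine hIH ⟨⟨c, hc.1, rfl⟩, ?_⟩
      show f c ∈ Subgroup.centralizer _
      rw [Subgroup.mem_centralizer_iff]
      rintro _ ⟨s, hs, rfl⟩
      rw [← map_mul, ← map_mul, Subgroup.mem_centralizer_iff.1 hc.2 s hs]
    rw [Subgroup.mem_normalizer_iff] at h1 ⊢
    intro y
    rw [hmem, hmem, map_mul, map_mul, map_inv]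
    exact h1 (f y)
  rcases hKor with ⟨m, hm⟩ | hcopK
  · -- `K` is a `q`-group
    have hKq : IsPGroup q K := IsPGroup.of_card hm
    have hsup : IsPGroup q (Q ⊔ K : Subgroup Γ) := hQ.to_sup_of_normal_right hKq
    have hle : Q ⊔ K ≤ Q := by
      rw [← Subgroup.relIndex_eq_one]
      obtain ⟨a, ha⟩ := IsPGroup.iff_card.1 hsup
      have h1 : Q.relIndex (Q ⊔ K) ∣ q ^ a := ha ▸ Subgroup.relIndex_dvd_card _ _
      obtain ⟨j, -, hj⟩ := (Nat.dvd_prime_pow hqP).1 h1
      have h2 := Subgroup.relIndex_mul_relIndex Q (Q ⊔ K) H le_sup_left (sup_le hQH hKH)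
      rcases Nat.eq_zero_or_pos j with h0 | h0
      · rw [hj, h0, pow_zero]
      · exfalso
        apply hQi
        rw [← h2, hj]
        exact (dvd_pow_self q h0.ne').mul_right _
    rwa [le_antisymm hle le_sup_left] at hnorm
  · have hqK : ¬ q ∣ Nat.card K := fun hd => by
      have := Nat.Coprime.eq_one_of_dvd (hcopK.symm) hd
      exact hqP.one_lt.ne' this
    have hpK : ¬ p ∣ Nat.card K := fun hd => hpH (hd.trans (Subgroup.card_dvd_of_le hKH))
    have h1 := fun θ hθ => step_one H S K Q hKH hS hpH hQH hQ hQi hSQ hdeg hnorm θ hθ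
    have h2 := step_two S K Q hS hpK hQ hqK hSQ h1
    have hle : ∀ c ∈ H ⊓ Subgroup.centralizer (S : Set Γ), ∀ y ∈ Q, c * y * c⁻¹ ∈ Q := by
      intro c hc y hy
      have h3 : c * y * c⁻¹ ∈ Q ⊔ K := (Subgroup.mem_normalizer_iff.1 (hnorm hc) y).1
        (le_sup_left (a := Q) (b := K) hy)
      obtain ⟨a, ha, k, hk, hak⟩ := Subgroup.mem_sup_of_normal_right.1 h3
      have h4 : c * y * c⁻¹ ∈ Subgroup.centralizer (S : Set Γ) :=
        (Subgroup.centralizer (S : Set Γ)).mul_mem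
          ((Subgroup.centralizer (S : Set Γ)).mul_mem hc.2 (hSQ hy))
          ((Subgroup.centralizer (S : Set Γ)).inv_mem hc.2)
      have hkD : k ∈ K ⊓ Subgroup.centralizer (S : Set Γ) := by
        refine ⟨hk, ?_⟩
        have h5 : k = a⁻¹ * (c * y * c⁻¹) := by rw [← hak]; group
        rw [h5]
        exact (Subgroup.centralizer (S : Set Γ)).mul_mem
          ((Subgroup.centralizer (S : Set Γ)).inv_mem (hSQ ha)) h4
      have hcomm : Commute a k := ((Subgroup.mem_centralizer_iff.1 (h2 ha)) k hkD).symm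
      have hya : y ^ Nat.card Q = 1 := by
        have := pow_card_eq_one' (x := (⟨y, hy⟩ : Q))
        exact congrArg Subtype.val this
      have haa : a ^ Nat.card Q = 1 := by
        have := pow_card_eq_one' (x := (⟨a, ha⟩ : Q))
        exact congrArg Subtype.val this
      have h6 : (c * y * c⁻¹) ^ Nat.card Q = 1 := by
        rw [conj_pow, hya, mul_one, mul_inv_cancel]
      rw [← hak, hcomm.mul_pow, haa, one_mul] at h6
      have h7 : orderOf k ∣ Nat.card Q := orderOf_dvd_of_pow_eq_one h6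
      have h8 : orderOf k ∣ Nat.card K := Subgroup.orderOf_dvd_natCard K hk
      have h9 : orderOf k = 1 := by
        obtain ⟨j, hj⟩ := IsPGroup.iff_card.1 hQ
        rw [hj] at h7
        exact Nat.eq_one_of_dvd_coprimes (hcopK.pow_right j) h8 h7
      rw [orderOf_eq_one_iff] at h9
      rw [← hak, h9, mul_one]
      exact ha
    intro c hc
    rw [Subgroup.mem_normalizer_iff]
    intro y
    refine ⟨hle c hc y, fun hy => ?_⟩
    have := hle c⁻¹ (Subgroup.inv_mem _ hc) _ hy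
    simpa [mul_assoc] using this

end Cfsg.Agent.H699.CoprimeIto
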