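import Mathlib
import Cfsg.Prelude.Def_Blocks
import Cfsg.Prelude.Def_Local
import Cfsg.Agent.H699.CoprimeIto
import Cfsg.Agent.H710.SumSquares
import Cfsg.Agent.CharDeep.CliffordCorr
import Cfsg.Agent.S0867
import Cfsg.Agent.Lib.Cores
set_option linter.all false

/-!
# Characters of degree prime to `p` over invariant characters (helper699)

* `over_trans`: constituents of restrictions in two steps;
* `exists_over_inv`: over a `P`-invariant irreducible character of a normal `p'`-subgroup there is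
  an irreducible character of degree prime to `p`;
* `not_dvd_index`: the index of the inertia group of a linear character of a complemented abelian
  normal subgroup.
-/

set_option autoImplicit false

namespace Cfsg.Agent.H699.OverLin

open Cfsg Cfsg.Agent.Characters.Core Cfsg.Agent.Blocks Cfsg.Agent.H699.CoprimeIto
open Cfsg.Agent.CharactersDeep.ExtUnique

theorem classInner_subgroupOf {Γ : Type*} [Group Γ] {K X : Subgroup Γ} [Fintype K]
    [Fintype ↥(K.subgroupOf X)] (hKX : K ≤ X) (f g : K → ℂ) :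
    classInner (fun n : K.subgroupOf X => f ⟨(n : X), n.2⟩) (fun n => g ⟨(n : X), n.2⟩) =
      classInner f g := by
  rw [classInner_def, classInner_def]
  have e1 : Nat.card ↥(K.subgroupOf X) = Nat.card K :=
    Nat.card_congr (Subgroup.subgroupOfEquivOfLe hKX).toEquiv
  rw [e1]
  congr 1
  exact Fintype.sum_equiv (Subgroup.subgroupOfEquivOfLe hKX).toEquiv _ _ fun x => rfl

/-- Constituents of restrictions in two steps. -/
theorem over_trans {X : Type*} [Group X] [Fintype X] (K : Subgroup X) [Fintype K] {ψ ξ : X → ℂ}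
    {θ : K → ℂ} (hψ : IsCharacter X ψ) (hξ : IsIrrCharacter X ξ) (hθ : IsIrrCharacter K θ)
    (h1 : classInner ψ ξ ≠ 0) (h2 : classInner (fun n : K => ξ n) θ ≠ 0) :
    classInner (fun n : K => ψ n) θ ≠ 0 := by
  classical
  have := finite_irr (G := X)
  have := Fintype.ofFinite (IrrCharacter X)
  obtain ⟨m, hm⟩ := exists_nat_comb hψ
  have hmξ : m ⟨ξ, hξ⟩ ≠ 0 := by
    intro h0
    apply h1
    rw [hm]
    have := classInner_sum_nsmul_irr m ⟨ξ, hξ⟩
    rw [h0, Nat.cast_zero] at this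
    exact this
  have h3 : ∀ η : IrrCharacter X, ∃ k : ℕ, classInner (fun n : K => (η : X → ℂ) n) θ = k :=
    fun η => classInner_isNat (isCharacter_comp K.subtype (isIrr_isCharacter η.2))
      (isIrr_isCharacter hθ)
  choose k hk using h3
  have h4 : classInner (fun n : K => ψ n) θ = ((∑ η : IrrCharacter X, m η * k η : ℕ) : ℂ) := by
    have e : (fun n : K => ψ n) = ∑ η : IrrCharacter X, (m η : ℂ) • (fun n : K => (η : X → ℂ) n) := by
      funext n
      rw [hm, Finset.sum_apply, Finset.sum_apply]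
      refine Finset.sum_congr rfl fun η _ => ?_
      rw [Pi.smul_apply, Pi.smul_apply, nsmul_eq_mul, smul_eq_mul]
    rw [e, classInner_sum_left]
    push_cast
    refine Finset.sum_congr rfl fun η _ => ?_
    rw [classInner_smul_left, hk]
  rw [h4]
  have h5 : k ⟨ξ, hξ⟩ ≠ 0 := by
    intro h0
    apply h2
    have := hk ⟨ξ, hξ⟩
    rw [h0, Nat.cast_zero] at this
    exact this
  have h6 : 0 < ∑ η : IrrCharacter X, m η * k η :=
    Finset.sum_pos' (fun _ _ => Nat.zero_le _) ⟨⟨ξ, hξ⟩, Finset.mem_univ _,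
      Nat.mul_pos (Nat.pos_of_ne_zero hmξ) (Nat.pos_of_ne_zero h5)⟩
  exact_mod_cast h6.ne'

/-- The determinantal order divides the order of the group. -/
theorem detOrder_dvd_card {X : Type*} [Group X] [Finite X] {θ : X → ℂ} (hθ : IsIrrCharacter X θ) :
    detOrder θ ∣ Nat.card X := by
  obtain ⟨δ, hδ⟩ := exists_hom_detChar hθ
  show orderOf (detChar θ) ∣ Nat.card X
  rw [orderOf_dvd_iff_pow_eq_one]
  funext n
  rw [Pi.pow_apply, hδ, Pi.one_apply, ← Units.val_pow_eq_pow_val, ← map_pow, pow_card_eq_one',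
    map_one, Units.val_one]

/-- Over a `P`-invariant irreducible character of a normal `p'`-subgroup there is an irreducible
character of degree prime to `p`. -/
theorem exists_over_inv {G : Type*} [Group G] [Fintype G] {p : ℕ} [Fact p.Prime] (K : Subgroup G)
    [hKn : K.Normal] [Fintype K] (hpK : ¬ p ∣ Nat.card K) (P : Sylow p G) (θ : IrrCharacter K)
    (hθ : SInv (P : Subgroup G) K θ) :
    ∃ χ : IrrCharacter G, ¬ p ∣ charDegree (χ : G → ℂ) ∧
      classInner (fun n : K => (χ : G → ℂ) n) (θ : K → ℂ) ≠ 0 := by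
  classical
  have hpP : p.Prime := Fact.out
  set X : Subgroup G := K ⊔ P with hX
  have hKX : K ≤ X := le_sup_left
  have hPX : (P : Subgroup G) ≤ X := le_sup_right
  have := Fintype.ofFinite X
  have := Fintype.ofFinite (K.subgroupOf X)
  have hK'n : (K.subgroupOf X).Normal := inferInstance
  set θ' : K.subgroupOf X → ℂ := fun n => (θ : K → ℂ) ⟨(n : X), n.2⟩ with hθ'
  have hθ'irr : IsIrrCharacter ↥(K.subgroupOf X) θ' := isIrr_subgroupOf hKX θ.2
  have hcard : Nat.card ↥(K.subgroupOf X) = Nat.card K :=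
    Nat.card_congr (Subgroup.subgroupOfEquivOfLe hKX).toEquiv
  have hinv : ∀ (g : X) (n : K.subgroupOf X),
      θ' ⟨g * n * g⁻¹, hK'n.conj_mem (n : X) n.2 g⟩ = θ' n := by
    intro g n
    obtain ⟨k, hk, s, hs, hg⟩ := Subgroup.mem_sup_of_normal_left.1 g.2
    have h1 := hθ s hs ⟨(n : X), n.2⟩ ⟨s * (n : X) * s⁻¹, hKn.conj_mem _ n.2 s⟩ rfl
    have h2 := isIrr_isClassFunction θ.2 ⟨s * (n : X) * s⁻¹, hKn.conj_mem _ n.2 s⟩ ⟨k, hk⟩
    rw [h1] at h2
    rw [← show _ = θ' n from h2]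
    show (θ : K → ℂ) _ = (θ : K → ℂ) _
    have e : (⟨(g : G) * ((n : X) : G) * (g : G)⁻¹, hKn.conj_mem _ n.2 (g : G)⟩ : K) =
        ⟨k, hk⟩ * ⟨s * (n : X) * s⁻¹, hKn.conj_mem _ n.2 s⟩ * (⟨k, hk⟩ : K)⁻¹ := by
      apply Subtype.ext
      show (g : G) * ((n : X) : G) * (g : G)⁻¹ = k * (s * ((n : X) : G) * s⁻¹) * k⁻¹
      rw [← hg]; group
    exact congrArg _ e
  have hidx : ∃ a : ℕ, (K.subgroupOf X).index = p ^ a := by
    obtain ⟨b, hb⟩ := IsPGroup.iff_card.1 P.isPGroup'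
    have h1 := Lib.Cores.card_sup_dvd K (P : Subgroup G) hKn
    have h2 := (K.subgroupOf X).card_mul_index
    rw [hcard] at h2
    rw [← hX, ← h2, hb] at h1
    have h3 := Nat.dvd_of_mul_dvd_mul_left Nat.card_pos h1
    obtain ⟨a, -, ha⟩ := (Nat.dvd_prime_pow hpP).1 h3
    exact ⟨a, ha⟩
  obtain ⟨a, ha⟩ := hidx
  have hcop : ∀ m : ℕ, m ∣ Nat.card K → Nat.Coprime (K.subgroupOf X).index m := by
    intro m hm
    rw [ha]
    exact Nat.Coprime.pow_left a ((hpP.coprime_iff_not_dvd).2 fun hd => hpK (hd.trans hm))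
  have hdeg : charDegree θ' ∣ Nat.card K := hcard ▸ H710.PPrimeDeg.charDegree_dvd_card hθ'irr
  obtain ⟨ξ, ⟨hξ, hres, -⟩, -⟩ := S0867.result (K.subgroupOf X) θ' hθ'irr hinv (charDegree θ')
    (Basic.irr_one_eq_charDegree hθ'irr)
    (Nat.Coprime.mul_right (hcop _ (hcard ▸ detOrder_dvd_card hθ'irr)) (hcop _ hdeg))
  have hξdeg : charDegree ξ = charDegree θ' := by
    apply Basic.charDegree_of_eq
    rw [← Basic.irr_one_eq_charDegree hθ'irr]; exact hres 1
  have hXi : ¬ p ∣ X.index := fun hd => P.not_dvd_index (hd.trans (Subgroup.index_dvd_of_le hPX))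
  obtain ⟨χ, hχ, hover⟩ := H710.SumSquares.exists_over X hXi ⟨ξ, hξ⟩ (by
    show ¬ p ∣ charDegree ξ
    rw [hξdeg]
    exact fun hd => hpK (hd.trans hdeg))
  refine ⟨χ, hχ, ?_⟩
  have hψ : IsCharacter X (fun n : X => (χ : G → ℂ) n) :=
    isCharacter_comp X.subtype (isIrr_isCharacter χ.2)
  have h1 := over_trans (K.subgroupOf X) hψ hξ hθ'irr hover (by
    have : (fun n : K.subgroupOf X => ξ n) = θ' := funext hres
    rw [this, classInner_irr_self hθ'irr]
    exact one_ne_zero)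
  intro h0
  apply h1
  rw [← h0, ← classInner_subgroupOf hKX]

/-- A linear character of a complemented abelian normal subgroup extends to its inertia group. -/
theorem exists_extension {G : Type*} [Group G] (N L : Subgroup G) [hN : N.Normal]
    (hab : ∀ a ∈ N, ∀ b ∈ N, a * b = b * a) (hinf : N ⊓ L = ⊥) (hsup : N ⊔ L = ⊤)
    (lam : N →* ℂˣ) (T : Subgroup G)
    (hT : ∀ g ∈ T, ∀ n : N, lam ⟨g * n * g⁻¹, hN.conj_mem (n : G) n.2 g⟩ = lam n) :
    ∃ f : T →* ℂˣ, ∀ (n : N) (hn : (n : G) ∈ T), f ⟨n, hn⟩ = lam n := by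
  classical
  have h1 : ∀ g : G, ∃ n : N, (n : G)⁻¹ * g ∈ L := by
    intro g
    obtain ⟨n, hn, l, hl, hg⟩ := Subgroup.mem_sup_of_normal_left.1 (hsup ▸ Subgroup.mem_top g)
    exact ⟨⟨n, hn⟩, by rw [← hg]; simpa using hl⟩
  choose ν hν using h1
  have huniq : ∀ (g : G) (n : N), (n : G)⁻¹ * g ∈ L → ν g = n := by
    intro g n hn
    have h2 : ((n : G)⁻¹ * g) * ((ν g : G)⁻¹ * g)⁻¹ ∈ L := L.mul_mem hn (L.inv_mem (hν g))
    have h3 : ((n : G)⁻¹ * g) * ((ν g : G)⁻¹ * g)⁻¹ = (n : G)⁻¹ * ν g := by group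
    rw [h3] at h2
    have h4 : (n : G)⁻¹ * ν g ∈ N ⊓ L := ⟨N.mul_mem (N.inv_mem n.2) (ν g).2, h2⟩
    rw [hinf, Subgroup.mem_bot, inv_mul_eq_one] at h4
    exact Subtype.ext h4.symm
  have hmul : ∀ g g' : G, ν (g * g') = ν g * ⟨g * ν g' * g⁻¹, hN.conj_mem _ (ν g').2 g⟩ := by
    intro g g'
    apply huniq
    have h2 : (ν g : G) * (g * ν g' * g⁻¹) = g * ν g' * g⁻¹ * ν g :=
      hab _ (ν g).2 _ (hN.conj_mem _ (ν g').2 g)
    have h3 : (((ν g * ⟨g * ν g' * g⁻¹, hN.conj_mem _ (ν g').2 g⟩ : N) : G))⁻¹ * (g * g') =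
        ((ν g : G)⁻¹ * g) * ((ν g' : G)⁻¹ * g') := by
      push_cast
      rw [h2]; group
    rw [h3]
    exact L.mul_mem (hν g) (hν g')
  refine ⟨⟨⟨fun t => lam (ν t), ?_⟩, ?_⟩, ?_⟩
  · show lam (ν ((1 : T) : G)) = 1
    rw [huniq ((1 : T) : G) 1 (by simpa using L.one_mem), map_one]
  · intro t t'
    show lam (ν ((t : G) * (t' : G))) = lam (ν t) * lam (ν t')
    rw [hmul, map_mul, hT t t.2]
  · intro n hn
    show lam (ν (n : G)) = lam n
    rw [huniq (n : G) n (by simpa using L.one_mem)]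

/-- The index of the inertia group of a linear character of a complemented abelian normal
subgroup is prime to `q`. -/
theorem not_dvd_index {G : Type*} [Group G] [Fintype G] {p q : ℕ} [Fact p.Prime]
    (hdeg : ∀ χ : IrrCharacter G, ¬ p ∣ charDegree (χ : G → ℂ) → ¬ q ∣ charDegree (χ : G → ℂ))
    (N L : Subgroup G) [hN : N.Normal]
    (hab : ∀ a ∈ N, ∀ b ∈ N, a * b = b * a) (hinf : N ⊓ L = ⊥) (hsup : N ⊔ L = ⊤)
    (lam : N →* ℂˣ) (T : Subgroup G)
    (hT : ∀ g : G, g ∈ T ↔ ∀ n : N, lam ⟨g * n * g⁻¹, hN.conj_mem (n : G) n.2 g⟩ = lam n)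
    (hTp : ¬ p ∣ T.index) : ¬ q ∣ T.index := by
  classical
  have hpP : p.Prime := Fact.out
  have := Fintype.ofFinite T
  have := Fintype.ofFinite N
  have hNT : N ≤ T := by
    intro x hx
    rw [hT]
    intro n
    congr 1
    apply Subtype.ext
    show x * n * x⁻¹ = n
    rw [hab x hx n n.2]; group
  have := Fintype.ofFinite (N.subgroupOf T)
  obtain ⟨f, hf⟩ := exists_extension N L hab hinf hsup lam T (fun g hg => (hT g).1 hg)
  have hlamirr : IsIrrCharacter N (fun n => (lam n : ℂ)) :=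
    Cfsg.Agent.Characters.Linear.isIrrCharacter_hom lam
  have hfirr : IsIrrCharacter T (fun n => (f n : ℂ)) :=
    Cfsg.Agent.Characters.Linear.isIrrCharacter_hom f
  obtain ⟨χ, hχ, hover⟩ := H710.SumSquares.exists_over T hTp ⟨_, hfirr⟩ (by
    show ¬ p ∣ charDegree (fun n => ((f n : ℂˣ) : ℂ))
    rw [Basic.charDegree_of_eq (n := 1) (by simp)]
    exact hpP.not_dvd_one)
  have h1 : classInner (fun n : N => (χ : G → ℂ) n) (fun n => (lam n : ℂ)) ≠ 0 := by
    have hψ : IsCharacter T (fun n : T => (χ : G → ℂ) n) :=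
      isCharacter_comp T.subtype (isIrr_isCharacter χ.2)
    have h2 := over_trans (N.subgroupOf T) hψ hfirr (isIrr_subgroupOf hNT hlamirr) hover (by
      have : (fun n : N.subgroupOf T => ((f n : ℂˣ) : ℂ)) =
          fun n : N.subgroupOf T => ((lam ⟨(n : T), n.2⟩ : ℂˣ) : ℂ) := by
        funext n
        have := hf ⟨(n : T), n.2⟩ (n : T).2
        rw [← this]
      rw [this, classInner_irr_self (isIrr_subgroupOf hNT hlamirr)]
      exact one_ne_zero)
    intro h0
    apply h2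
    rw [← h0, ← classInner_subgroupOf hNT]
  have h2 := inertia_index_dvd N (fun n => (lam n : ℂ)) hlamirr T (fun g => by
    rw [hT]
    exact forall_congr' fun n => Units.ext_iff) (χ : G → ℂ) χ.2 h1
  exact fun hd => hdeg χ hχ (hd.trans h2)

end Cfsg.Agent.H699.OverLin
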