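import Mathlib
import Cfsg.Agent.H699.IBrGen
import Cfsg.Agent.Blocks.Orthogonality
import Cfsg.Agent.Blocks.AvgIntegral
import Cfsg.Agent.S0913
import Cfsg.Agent.S0909
import Cfsg.Agent.Blocks.OsimaUnion
set_option linter.all false

/-!
# Blocks whose irreducible characters have equal degrees (helper699)

* `exists_int_comb`: the irreducible Brauer characters of a block are integral combinations of the
  restrictions of its irreducible characters;
* `exists_single`: if all irreducible characters of the block have the degree `d`, then their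
  restrictions to the `p`-regular elements are one and the same irreducible Brauer character, and it
  is the only one of the block.
-/

set_option autoImplicit false

universe u

namespace Cfsg.Agent.H699.EqDeg

open Cfsg IsLocalRing Module Cfsg.Agent.H657 Cfsg.Agent.H699.IBrLift
open Cfsg.Agent.H608.BlockRank
open scoped ComplexConjugate

attribute [local instance] Above.isAlgClosed

variable {V : ValuationSubring ℂ} {G : Type u} [Group G] [Finite G] {M : Ideal AlgInt} {p : ℕ}
  {B : Set (IrrCharacter G)}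

/-- The irreducible Brauer characters of a block are integral combinations of the restrictions of
its irreducible characters. -/
theorem exists_int_comb (hM : IsPModular p M) (hV : Above M V) (hB : IsUnion M B) {i : IBr V G}
    (hi : i ∈ ibrUnder V B) [Fintype (IrrCharacter G)] :
    ∃ n : IrrCharacter G → ℤ, (∀ χ, χ ∉ B → n χ = 0) ∧
      phi p i = ∑ χ : IrrCharacter G, (n χ : ℂ) • pReg p (χ : G → ℂ) := by
  classical
  have : Fact p.Prime := ⟨hM.1⟩
  have : CharP (ResidueField V) p := hV.charP hM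
  obtain ⟨N, k, m, hn, hmp, h1, h0⟩ :=
    Characters.Brauer.exists_exponent (Nat.card G) p Nat.card_pos.ne' hM.1
  obtain ⟨n, hn'⟩ := Characters.Core.isGeneralizedCharacter_iff.1
    (isGeneralizedCharacter_bc hM hV hn hmp h1 h0 i.rep)
  have hphi : phi p i = ∑ χ : IrrCharacter G, (n χ : ℂ) • pReg p (χ : G → ℂ) := by
    funext g
    rw [Finset.sum_apply]
    by_cases hg : IsPRegular p g
    · have h2 : g ^ N = g := by
        have h3 : orderOf g ∣ m := by
          have h4 : orderOf g ∣ p ^ k * m := hn ▸ orderOf_dvd_natCard g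
          exact (Nat.Coprime.pow_right k
            ((Nat.Prime.coprime_iff_not_dvd hM.1).2 hg).symm).dvd_of_dvd_mul_left h4
        have h5 := (pow_eq_pow_iff_modEq (x := g)).2 (h1.of_dvd h3)
        rwa [pow_one] at h5
      have h3 : bc p i.rep (g ^ N) = _ := congrFun hn' g
      rw [h2, Finset.sum_apply] at h3
      rw [phi_of i hg, h3]
      refine Finset.sum_congr rfl fun χ _ => ?_
      rw [Pi.smul_apply, Pi.smul_apply, pReg_of hg, zsmul_eq_mul, smul_eq_mul]
    · rw [phi_of_not i hg]
      refine (Finset.sum_eq_zero fun χ _ => ?_).symm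
      rw [Pi.smul_apply, pReg_of_not hg, smul_zero]
  refine ⟨fun χ => if χ ∈ B then n χ else 0, fun χ hχ => if_neg hχ, ?_⟩
  set u : G → ℂ := ∑ χ : IrrCharacter G, (((if χ ∈ B then n χ else 0 : ℤ)) : ℂ) •
    pReg p (χ : G → ℂ) with hu
  set v : G → ℂ := ∑ χ : IrrCharacter G, (((if χ ∈ B then 0 else n χ : ℤ)) : ℂ) •
    pReg p (χ : G → ℂ) with hv
  have huv : u + v = phi p i := by
    rw [hphi, hu, hv, ← Finset.sum_add_distrib]
    refine Finset.sum_congr rfl fun χ _ => ?_
    rw [← add_smul]
    congr 1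
    split_ifs <;> simp
  have hu' : u ∈ Submodule.span ℂ (phi p '' ibrUnder V B) := by
    apply map_pReg_le_span hM hV B
    rw [hu]
    refine Submodule.sum_mem _ fun χ _ => ?_
    by_cases hχ : χ ∈ B
    · exact Submodule.smul_mem _ _ ⟨_, Submodule.subset_span ⟨χ, hχ, rfl⟩, rfl⟩
    · rw [if_neg hχ, Int.cast_zero, zero_smul]
      exact Submodule.zero_mem _
  have hv' : v ∈ Submodule.span ℂ (phi p '' ibrUnder V Bᶜ) := by
    apply map_pReg_le_span hM hV Bᶜ
    rw [hv]
    refine Submodule.sum_mem _ fun χ _ => ?_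
    by_cases hχ : χ ∈ B
    · rw [if_pos hχ, Int.cast_zero, zero_smul]
      exact Submodule.zero_mem _
    · exact Submodule.smul_mem _ _ ⟨_, Submodule.subset_span ⟨χ, hχ, rfl⟩, rfl⟩
  have hdisj : Disjoint (ibrUnder V B) (ibrUnder V Bᶜ) := by
    rw [Set.disjoint_left]
    rintro j ⟨χ₁, hχ₁, h1⟩ ⟨χ₂, hχ₂, h2⟩
    exact hχ₂ (hB χ₁ χ₂ (under_sameBlock hM hV χ₁.2 χ₂.2 h1 h2) hχ₁)
  have hd := (linearIndependent_phi (V := V) (G := G) (p := p)).disjoint_span_image hdisj
  rw [Submodule.disjoint_def] at hd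
  have h2 : v = phi p i - u := by rw [← huv]; abel
  have h3 : v ∈ Submodule.span ℂ (phi p '' ibrUnder V B) := by
    rw [h2]
    exact Submodule.sub_mem _ (Submodule.subset_span ⟨i, hi, rfl⟩) hu'
  have h4 := hd v h3 hv'
  rw [h4, add_zero] at huv
  exact huv.symm

/-- The degrees of the irreducible Brauer characters of a block are multiples of a common divisor of
the degrees of its irreducible characters. -/
theorem dvd_deg (hM : IsPModular p M) (hV : Above M V) (hB : IsUnion M B) {d : ℕ}
    (hd : ∀ χ ∈ B, charDegree (χ : G → ℂ) = d) {i : IBr V G} (hi : i ∈ ibrUnder V B) :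
    d ∣ i.deg := by
  classical
  have : Fact p.Prime := ⟨hM.1⟩
  have : CharP (ResidueField V) p := hV.charP hM
  have := Characters.Core.finite_irr (G := G)
  have : Fintype (IrrCharacter G) := Fintype.ofFinite _
  obtain ⟨n, hn, h⟩ := exists_int_comb hM hV hB hi
  have h1 := congrFun h 1
  have hreg : IsPRegular p (1 : G) := by
    unfold IsPRegular
    rw [orderOf_one]
    exact hM.1.not_dvd_one
  rw [phi_one, Finset.sum_apply] at h1
  have h2 : (i.deg : ℂ) = ((d : ℤ) * ∑ χ : IrrCharacter G, n χ : ℤ) := by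
    rw [h1, Finset.mul_sum]
    push_cast
    refine Finset.sum_congr rfl fun χ _ => ?_
    rw [Pi.smul_apply, pReg_of hreg, smul_eq_mul]
    by_cases hχ : χ ∈ B
    · rw [Blocks.Basic.irr_one_eq_charDegree χ.2, hd χ hχ, mul_comm]
    · rw [hn χ hχ]
      simp
  have h3 : (i.deg : ℤ) = (d : ℤ) * ∑ χ : IrrCharacter G, n χ := by exact_mod_cast h2
  exact Int.natCast_dvd_natCast.1 ⟨_, h3⟩

/-- If all degrees are equal, the restrictions to the `p`-regular elements are irreducible. -/
theorem exists_eq_phi (hM : IsPModular p M) (hV : Above M V) (hB : IsUnion M B) {d : ℕ}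
    (hd : ∀ χ ∈ B, charDegree (χ : G → ℂ) = d) {χ : IrrCharacter G} (hχ : χ ∈ B) :
    ∃ i : IBr V G, Under i (χ : G → ℂ) ∧ i.deg = d ∧ pReg p (χ : G → ℂ) = phi p i := by
  classical
  have : Fact p.Prime := ⟨hM.1⟩
  have : CharP (ResidueField V) p := hV.charP hM
  obtain ⟨m, idx, h1, h2⟩ := exists_decomp hM hV χ.2
  have hreg : IsPRegular p (1 : G) := by
    unfold IsPRegular
    rw [orderOf_one]
    exact hM.1.not_dvd_one
  have h3 : d = ∑ l, (idx l).deg := by
    have h4 := h2 1 hreg
    rw [Blocks.Basic.irr_one_eq_charDegree χ.2, hd χ hχ,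
      Finset.sum_congr rfl fun l _ => phi_one (p := p) (idx l)] at h4
    exact_mod_cast h4
  have hdpos : 0 < d := by
    rw [← hd χ hχ]
    exact Blocks.Basic.charDegree_pos χ.2
  have hge : ∀ l, d ≤ (idx l).deg := fun l =>
    Nat.le_of_dvd (deg_pos _) (dvd_deg hM hV hB hd ⟨χ, hχ, h1 l⟩)
  have hm : m ≠ 0 := by
    rintro rfl
    rw [Fin.sum_univ_zero] at h3
    omega
  let l₀ : Fin m := ⟨0, Nat.pos_of_ne_zero hm⟩
  have huni : ∀ l, l = l₀ := by
    intro l
    by_contra hne
    have h5 : (idx l).deg + (idx l₀).deg ≤ ∑ l, (idx l).deg := by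
      rw [← Finset.sum_pair (f := fun l => (idx l).deg) hne]
      exact Finset.sum_le_sum_of_subset (Finset.subset_univ _)
    have := hge l
    have := hge l₀
    omega
  have hsum : ∀ (R : Type) [AddCommMonoid R] (f : Fin m → R), ∑ l, f l = f l₀ := fun R _ f =>
    Finset.sum_eq_single l₀ (fun l _ h => absurd (huni l) h) (fun h => absurd (Finset.mem_univ _) h)
  refine ⟨idx l₀, h1 l₀, ?_, ?_⟩
  · rw [h3, hsum]
  · funext g
    by_cases hg : IsPRegular p g
    · rw [pReg_of hg, h2 g hg, hsum]
    · rw [pReg_of_not hg, phi_of_not _ hg]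

/-- A sum of characters vanishing off the `p`-regular elements. -/
theorem isIntegral_div_sylow {θ : G → ℂ} (hp : p.Prime) (hθ : IsCharacter G θ)
    (hvan : ∀ y : G, p ∣ orderOf y → θ y = 0) (P : Sylow p G) :
    IsIntegral ℤ (θ 1 / Nat.card P) := by
  have : Fact p.Prime := ⟨hp⟩
  refine Blocks.AvgIntegral.isIntegral_div_card_of_vanish hp hvan (P : Subgroup G) P.isPGroup' 1
    (by rw [orderOf_one]; exact hp.not_dvd_one) (fun q _ => by rw [one_mul, mul_one]) ?_
  intro _
  obtain ⟨n, hn⟩ := Characters.Core.classInner_isNat (G := P)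
    (Characters.Core.isCharacter_comp (P : Subgroup G).subtype hθ) Characters.Core.isCharacter_one
  have h1 : ((Nat.card P : ℂ)⁻¹ * ∑ q : P, θ (1 * q)) = (n : ℂ) := by
    rw [← hn]
    unfold classInner
    congr 1
    refine Finset.sum_congr rfl fun q _ => ?_
    simp
  rw [h1]
  exact isIntegral_algebraMap (R := ℤ) (x := (n : ℤ))

/-- If all degrees are equal, the set of the characters with a given restriction to the
`p`-regular elements is a union of blocks. -/
theorem isUnion_part (hM : IsPModular p M) (hV : Above M V) (hB : IsUnion M B) {d : ℕ}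
    (hd : ∀ χ ∈ B, charDegree (χ : G → ℂ) = d) (i : IBr V G)
    (χ : IrrCharacter G) (hχ : χ ∈ {χ | χ ∈ B ∧ pReg p (χ : G → ℂ) = phi p i}) :
    blockOf M (χ : G → ℂ) ⊆ {χ | χ ∈ B ∧ pReg p (χ : G → ℂ) = phi p i} := by
  classical
  have hp := hM.1
  have : Fact p.Prime := ⟨hM.1⟩
  have : CharP (ResidueField V) p := hV.charP hM
  have hMp := Blocks.Local.isPrime_of_isPModular hM
  have := Characters.Core.finite_irr (G := G)
  have : Fintype (IrrCharacter G) := Fintype.ofFinite _
  have : Fintype (IBr V G) := Fintype.ofFinite _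
  have := Fintype.ofFinite G
  set S : Set (IrrCharacter G) := {χ | χ ∈ B ∧ pReg p (χ : G → ℂ) = phi p i} with hS
  have hlin := linearIndependent_phi (V := V) (G := G) (p := p)
  have hex : ∀ χ : IrrCharacter G, ∃ j : IBr V G, χ ∈ B → pReg p (χ : G → ℂ) = phi p j := by
    intro χ
    by_cases hχ : χ ∈ B
    · obtain ⟨j, -, -, hj⟩ := exists_eq_phi hM hV hB hd hχ
      exact ⟨j, fun _ => hj⟩
    · exact ⟨i, fun h => absurd h hχ⟩
  choose idx hidx using hex
  have hSmem : ∀ χ, χ ∈ S ↔ χ ∈ B ∧ idx χ = i := by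
    intro χ
    constructor
    · rintro ⟨h1, h2⟩
      exact ⟨h1, hlin.injective (by rw [← hidx χ h1, h2])⟩
    · rintro ⟨h1, h2⟩
      exact ⟨h1, by rw [hidx χ h1, h2]⟩
  -- the sum of the members of `S` vanishes off the `p`-regular elements
  have hRB : ∀ g, MemLocalRing M (blockCoeff B g) := fun g =>
    Blocks.OsimaUnion.memLocalRing_blockCoeff_union p hM B (fun χ hχ ψ h => hB χ ψ h hχ) g
  have hvan : ∀ y : G, p ∣ orderOf y →
      ∑ χ ∈ Finset.univ.filter (· ∈ S), (χ : G → ℂ) y = 0 := by
    intro y hy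
    have h1 : ∑ χ ∈ Finset.univ.filter (· ∈ B), conj ((χ : G → ℂ) y) • phi p (idx χ) = 0 := by
      funext x
      rw [Finset.sum_apply, Pi.zero_apply]
      by_cases hx : IsPRegular p x
      · have h2 := Blocks.Orthogonality.weak_block_orthogonality hM B hRB hx hy
        rw [finsum_mem_eq_toFinset_sum] at h2
        rw [← h2]
        refine Finset.sum_congr (by ext χ; simp) fun χ hχ => ?_
        rw [Set.mem_toFinset] at hχ
        rw [Pi.smul_apply, ← hidx χ hχ, pReg_of hx, smul_eq_mul, mul_comm]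
      · refine Finset.sum_eq_zero fun χ _ => ?_
        rw [Pi.smul_apply, phi_of_not _ hx, smul_zero]
    have h2 : ∑ j : IBr V G, (∑ χ ∈ (Finset.univ.filter (· ∈ B)).filter (fun χ => idx χ = j),
        conj ((χ : G → ℂ) y)) • phi p j = 0 := by
      rw [← h1, ← Finset.sum_fiberwise (Finset.univ.filter (· ∈ B)) idx]
      refine Finset.sum_congr rfl fun j _ => ?_
      rw [Finset.sum_smul]
      refine Finset.sum_congr rfl fun χ hχ => ?_
      rw [(Finset.mem_filter.1 hχ).2]
    have h3 := Fintype.linearIndependent_iff.1 hlin _ h2 i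
    have h4 : (Finset.univ.filter (· ∈ B)).filter (fun χ => idx χ = i) =
        Finset.univ.filter (· ∈ S) := by
      ext χ
      simp only [Finset.mem_filter, Finset.mem_univ, true_and, hSmem]
    rw [h4, ← map_sum] at h3
    exact (map_eq_zero _).1 h3
  -- the degree
  obtain ⟨P⟩ : Nonempty (Sylow p G) := inferInstance
  have hchar : IsCharacter G (∑ χ ∈ Finset.univ.filter (· ∈ S), (χ : G → ℂ)) :=
    Characters.Core.isCharacter_sum _ fun χ _ => Characters.Core.isIrr_isCharacter χ.2
  have hint := isIntegral_div_sylow hp hchar (fun y hy => by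
    rw [Finset.sum_apply]
    exact hvan y hy) P
  -- the coefficients
  have hcoeff : ∀ g, MemLocalRing M (blockCoeff S g) := by
    intro g
    have hfs : ∑ᶠ ψ ∈ S, (ψ : G → ℂ) 1 * conj ((ψ : G → ℂ) g) =
        (d : ℂ) * conj (∑ ψ ∈ Finset.univ.filter (· ∈ S), (ψ : G → ℂ) g) := by
      rw [finsum_mem_eq_toFinset_sum, map_sum, Finset.mul_sum]
      refine Finset.sum_congr (by ext χ; simp) fun ψ hψ => ?_
      have hψ' : ψ ∈ S := by simpa using hψ
      rw [Blocks.Basic.irr_one_eq_charDegree ψ.2, hd ψ hψ'.1]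
    unfold blockCoeff
    rw [hfs]
    by_cases hg : p ∣ orderOf g
    · rw [hvan g hg, map_zero, mul_zero, mul_zero]
      exact Blocks.Local.memLocalRing_zero
    · have h5 : ∑ ψ ∈ Finset.univ.filter (· ∈ S), (ψ : G → ℂ) g =
          (Finset.univ.filter (· ∈ S)).card * (χ : G → ℂ) g := by
        rw [Finset.sum_congr rfl (g := fun _ => (χ : G → ℂ) g), Finset.sum_const, nsmul_eq_mul]
        intro ψ hψ
        have h6 : ψ ∈ S := (Finset.mem_filter.1 hψ).2
        rw [← pReg_of (p := p) hg (ψ : G → ℂ), ← pReg_of (p := p) hg (χ : G → ℂ), h6.2, hχ.2]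
      have h6 : (∑ χ ∈ Finset.univ.filter (· ∈ S), (χ : G → ℂ)) 1 =
          (Finset.univ.filter (· ∈ S)).card * (d : ℂ) := by
        rw [Finset.sum_apply, Finset.sum_congr rfl (g := fun _ => (d : ℂ)), Finset.sum_const,
          nsmul_eq_mul]
        intro ψ hψ
        have h6 : ψ ∈ S := (Finset.mem_filter.1 hψ).2
        rw [Blocks.Basic.irr_one_eq_charDegree ψ.2, hd ψ h6.1]
      rw [h6] at hint
      obtain ⟨r, hr⟩ := Subgroup.card_subgroup_dvd_card (P : Subgroup G)
      have hPr : ¬ p ∣ r := by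
        have h7 := P.not_dvd_index
        have h8 := Subgroup.card_mul_index (P : Subgroup G)
        rw [hr] at h8
        have h9 := Nat.eq_of_mul_eq_mul_left Nat.card_pos h8
        rwa [h9] at h7
      have hP0 : (Nat.card P : ℂ) ≠ 0 := Nat.cast_ne_zero.2 Nat.card_pos.ne'
      have hr0 : (r : ℂ) ≠ 0 := by
        intro h
        apply hPr
        rw [Nat.cast_eq_zero.1 h]
        exact dvd_zero p
      have h10 : (Nat.card G : ℂ)⁻¹ * ((d : ℂ) * conj (∑ ψ ∈ Finset.univ.filter (· ∈ S),
          (ψ : G → ℂ) g)) = ((Finset.univ.filter (· ∈ S)).card * (d : ℂ) / Nat.card P) *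
            ((r : ℂ)⁻¹ * conj ((χ : G → ℂ) g)) := by
        rw [h5, map_mul, map_natCast, hr]
        have : ((Nat.card (P : Subgroup G) * r : ℕ) : ℂ) = (Nat.card P : ℂ) * (r : ℂ) := by
          push_cast
          rfl
        rw [this]
        field_simp
      rw [h10]
      refine Blocks.Local.memLocalRing_mul (Blocks.Local.memLocalRing_of_isIntegral hint)
        (Blocks.Local.memLocalRing_mul (Blocks.Local.memLocalRing_inv_natCast hM hPr)
          (Blocks.Local.memLocalRing_of_isIntegral ?_))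
      have h11 : IsIntegral ℤ ((χ : G → ℂ) g) := Blocks.Central.isIntegral_irr χ.2 g
      exact h11.map (starRingEnd ℂ).toIntAlgHom
  exact S0909.result p M hM S hcoeff χ hχ

/-- **Blocks whose irreducible characters have equal degrees.** -/
theorem exists_single (hM : IsPModular p M) (hV : Above M V) (hB : IsPBlock M B) {d : ℕ}
    (hd : ∀ χ ∈ B, charDegree (χ : G → ℂ) = d) :
    ∃ i : IBr V G, i.deg = d ∧ (∀ χ ∈ B, pReg p (χ : G → ℂ) = phi p i) ∧ ibrUnder V B = {i} := by
  classical
  have hp := hM.1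
  have : Fact p.Prime := ⟨hM.1⟩
  have : CharP (ResidueField V) p := hV.charP hM
  have hMp := Blocks.Local.isPrime_of_isPModular hM
  have := Characters.Core.finite_irr (G := G)
  have : Fintype (IrrCharacter G) := Fintype.ofFinite _
  have hBu : IsUnion M B := isUnion_of_isPBlock hB
  have hlin := linearIndependent_phi (V := V) (G := G) (p := p)
  obtain ⟨χ₀, rfl⟩ := hB
  have hχ₀ : χ₀ ∈ blockOf M (χ₀ : G → ℂ) := Blocks.Basic.mem_blockOf_self χ₀
  obtain ⟨i, hi1, hi2, hi3⟩ := exists_eq_phi hM hV hBu hd hχ₀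
  have hall : ∀ χ ∈ blockOf M (χ₀ : G → ℂ), pReg p (χ : G → ℂ) = phi p i := by
    intro χ hχ
    exact (isUnion_part hM hV hBu hd i χ₀ ⟨hχ₀, hi3⟩ hχ).2
  refine ⟨i, hi2, hall, ?_⟩
  refine Set.Subset.antisymm (fun j hj => ?_) ?_
  · rw [Set.mem_singleton_iff]
    by_contra hne
    have h1 := hlin.notMem_span_image (s := {j}ᶜ) (x := j) (fun h => h rfl)
    apply h1
    obtain ⟨n, hn, h⟩ := exists_int_comb hM hV hBu hj
    rw [h]
    refine Submodule.sum_mem _ fun χ _ => ?_
    by_cases hχ : χ ∈ blockOf M (χ₀ : G → ℂ)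
    · rw [hall χ hχ]
      exact Submodule.smul_mem _ _ (Submodule.subset_span ⟨i, fun h => hne h.symm, rfl⟩)
    · rw [hn χ hχ, Int.cast_zero, zero_smul]
      exact Submodule.zero_mem _
  · rw [Set.singleton_subset_iff]
    exact ⟨χ₀, hχ₀, hi1⟩

theorem blockRank_eq_one (hM : IsPModular p M) (hB : IsPBlock M B) {d : ℕ}
    (hd : ∀ χ ∈ B, charDegree (χ : G → ℂ) = d) : blockRank p B = 1 := by
  obtain ⟨V, hV⟩ := exists_above hM
  have hMp := Blocks.Local.isPrime_of_isPModular hM
  obtain ⟨i, -, -, hi⟩ := exists_single hM hV hB hd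
  rw [blockRank_eq_card hM hV (isUnion_of_isPBlock hB), hi]
  exact Nat.card_unique

end Cfsg.Agent.H699.EqDeg
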