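import Mathlib
import Cfsg.Agent.ClassicalGeometry.SympBasic
import Cfsg.Agent.ClassicalGeometry.OrthDickson
import Cfsg.Agent.Characters.Brauer
import Cfsg.Agent.PermutationGroups.MultFree
import Cfsg.Agent.S0190
import Cfsg.Agent.H699.SpSixChar
import Cfsg.Agent.S0270
import Cfsg.Agent.S0246
import Cfsg.Agent.Prune
set_option linter.all false
prune_inst 0x7f00000000000000000000000000000000000000000000000000000000000000000000000000000000000000000000000000000000000000000000000000000000000000000000000000000000000000003fffffffffffffffffffffffffffbeffbdfbfeffff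
open scoped Cfsg.Agent.FastGrp

-- part: H699/SpSixForms
section
/-!
# `Sp₆(2)` acting on the quadratic forms polarizing to the symplectic form

The two orbits (36 forms of plus type, 28 of minus type), double transitivity, fixed points of
transvections, and the Dickson sign.
-/

set_option autoImplicit false
set_option linter.unusedSectionVars false

open Cfsg Matrix Cfsg.Agent.ClassicalGeometry.SympBasic

namespace Cfsg.Agent.H699.SpSix

/-- the natural module -/
abbrev VV := Fin 3 ⊕ Fin 3 → ZMod 2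

/-- the symplectic group -/
abbrev GG := Matrix.symplecticGroup (Fin 3) (ZMod 2)

/-- the symplectic form -/
abbrev bil (x y : VV) : ZMod 2 := sympForm 3 (ZMod 2) x y

theorem zmod_two (a : ZMod 2) : a = 0 ∨ a = 1 := by
  revert a; decide

theorem bil_comm (x y : VV) : bil x y = bil y x := by
  rw [bil, sympForm_swap, CharTwo.neg_eq]

/-- action on vectors -/
def act (g : GG) (x : VV) : VV := (g : Matrix (Fin 3 ⊕ Fin 3) (Fin 3 ⊕ Fin 3) (ZMod 2)) *ᵥ x

theorem act_mul (g h : GG) (x : VV) : act (g * h) x = act g (act h x) := coe_mul_mulVec g h x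

theorem act_one (x : VV) : act 1 x = x := by
  rw [act]; simp

theorem act_inv_act (g : GG) (x : VV) : act g⁻¹ (act g x) = x := by
  rw [← act_mul, inv_mul_cancel, act_one]

theorem act_act_inv (g : GG) (x : VV) : act g (act g⁻¹ x) = x := by
  rw [← act_mul, mul_inv_cancel, act_one]

theorem act_add (g : GG) (x y : VV) : act g (x + y) = act g x + act g y := Matrix.mulVec_add _ _ _

theorem act_smul (g : GG) (c : ZMod 2) (x : VV) : act g (c • x) = c • act g x :=
  Matrix.mulVec_smul _ _ _

theorem act_zero (g : GG) : act g 0 = 0 := Matrix.mulVec_zero _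

theorem bil_act (g : GG) (x y : VV) : bil (act g x) (act g y) = bil x y := sympForm_mulVec g.2 x y

theorem act_ext {g h : GG} (H : ∀ x, act g x = act h x) : g = h := by
  apply Subtype.ext
  apply Matrix.mulVec_injective
  funext x
  exact H x

theorem bil_inv_act (g : GG) (x y : VV) : bil (act g⁻¹ x) y = bil x (act g y) := by
  rw [← bil_act g, act_act_inv]

/-- quadratic functions polarizing to the symplectic form -/
@[ext] structure Frm where
  /-- the function -/
  fn : VV → ZMod 2
  map_add : ∀ x y, fn (x + y) = fn x + fn y + bil x y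

theorem Frm.fn_injective : Function.Injective Frm.fn := fun _ _ h => Frm.ext h

noncomputable instance : Fintype Frm := by
  classical
  exact Fintype.ofInjective _ Frm.fn_injective

theorem Frm.ext' {Q Q' : Frm} (h : ∀ x, Q.fn x = Q'.fn x) : Q = Q' := Frm.ext (funext h)

theorem Frm.zero (Q : Frm) : Q.fn 0 = 0 := by
  have h := Q.map_add 0 0
  rw [add_zero, bil, sympForm_zero_left, add_zero] at h
  exact (left_eq_add.1 h)

instance : MulAction GG Frm where
  smul g Q := ⟨fun x => Q.fn (act g⁻¹ x), fun x y => by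
    beta_reduce
    rw [act_add, Q.map_add, bil_act]⟩
  one_smul Q := Frm.ext' fun x => by
    change Q.fn (act (1 : GG)⁻¹ x) = Q.fn x
    rw [inv_one, act_one]
  mul_smul g h Q := Frm.ext' fun x => by
    change Q.fn (act (g * h)⁻¹ x) = Q.fn (act h⁻¹ (act g⁻¹ x))
    rw [_root_.mul_inv_rev, act_mul]

theorem smul_apply (g : GG) (Q : Frm) (x : VV) : (g • Q).fn x = Q.fn (act g⁻¹ x) := rfl

/-- transvections -/
def tau (v : VV) : GG := transv v 1

theorem act_tau (v x : VV) : act (tau v) x = x + bil x v • v := by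
  rw [act, tau, coe_transv, sympTransvection_mulVec, one_mul]

theorem conj_tau (g : GG) (v : VV) : g * tau v * g⁻¹ = tau (act g v) := act_ext fun x => by
  rw [act_mul, act_mul, act_tau, act_tau, act_add, act_act_inv, act_smul, bil_inv_act]

/-- number of zeros -/
def nz (Q : Frm) : ℕ := (Finset.univ.filter fun x => Q.fn x = 0).card

theorem nz_smul (g : GG) (Q : Frm) : nz (g • Q) = nz Q := by
  refine Finset.card_bij (fun x _ => act g⁻¹ x) ?_ ?_ ?_
  · intro x hx
    rw [Finset.mem_filter] at hx ⊢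
    exact ⟨Finset.mem_univ _, hx.2⟩
  · intro x _ y _ h
    have := congrArg (act g) h
    rwa [act_act_inv, act_act_inv] at this
  · intro y hy
    rw [Finset.mem_filter] at hy
    refine ⟨act g y, ?_, act_inv_act g y⟩
    rw [Finset.mem_filter, smul_apply, act_inv_act]
    exact ⟨Finset.mem_univ _, hy.2⟩

theorem add_add_self (x w : VV) : x + w + w = x := by
  rw [add_assoc]
  have : w + w = 0 := by
    ext j
    exact CharTwo.add_self_eq_zero (w j)
  rw [this, add_zero]

/-- the two orbits -/
abbrev XX (c : ℕ) : Type := {Q : Frm // nz Q = c}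

noncomputable instance (c : ℕ) : Fintype (XX c) := by
  classical
  exact inferInstance

instance (c : ℕ) : MulAction GG (XX c) where
  smul g Q := ⟨g • Q.1, by rw [nz_smul]; exact Q.2⟩
  one_smul Q := Subtype.ext (one_smul _ _)
  mul_smul g h Q := Subtype.ext (mul_smul _ _ _)

end Cfsg.Agent.H699.SpSix
end

-- part: H699/SpSixEps
section
/-!
# The Dickson sign and the characters of degree 36, 28 of `Sp₆(2)`
-/

set_option autoImplicit false
set_option linter.unusedSectionVars false

open Cfsg Matrix Cfsg.Agent.ClassicalGeometry.SympBasic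
open scoped ComplexConjugate

namespace Cfsg.Agent.H699.SpSix

noncomputable instance : Fintype GG := Fintype.ofFinite _

section Fixed

variable {c : ℕ} (hc : c ≠ 32) (Q : XX c)

include hc

end Fixed

end Cfsg.Agent.H699.SpSix
end

-- part: H699/SpSixMain
section
/-!
# `Sp₆(2)` has two irreducible characters of equal degree
-/

set_option autoImplicit false
set_option linter.unusedSectionVars false

open Cfsg Matrix Cfsg.Agent.ClassicalGeometry.SympBasic
open Cfsg.Agent.H689 (Ratl)
open scoped ComplexConjugate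

namespace Cfsg.Agent.H699.SpSix

/-! ### Fixed points -/

/-- the vector of the transvection -/
def v0 : VV := Sum.elim ![1, 0, 0] ![0, 0, 0]

theorem v0_ne : v0 ≠ 0 := by decide +kernel

/-! ### Points -/

/-! ### The class of transvections -/

theorem tau_inj {u w : VV} (hu : u ≠ 0) (hw : w ≠ 0) (h : tau u = tau w) : u = w := by
  obtain ⟨z, hz, hz'⟩ := exists_both_ne_zero hu hw
  have e1 : bil z u = 1 := (zmod_two _).resolve_left (by rw [bil_comm]; exact hz)
  have e2 : bil z w = 1 := (zmod_two _).resolve_left (by rw [bil_comm]; exact hz')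
  have h1 : act (tau u) z = act (tau w) z := by rw [h]
  rw [act_tau, act_tau, e1, e2, one_smul, one_smul] at h1
  exact add_left_cancel h1

theorem vec_trans {u w : VV} (hu : u ≠ 0) (hw : w ≠ 0) : ∃ g : GG, act g u = w := by
  have key : ∀ a b : VV, bil a b = 1 → act (tau (a + b)) a = b := by
    intro a b h
    rw [act_tau, bil, sympForm_add_right, sympForm_self, zero_add,
      show sympForm 3 (ZMod 2) a b = 1 from h, one_smul, add_comm a b, ← add_assoc, add_comm a b,
      add_add_self]
  obtain ⟨z, hz, hz'⟩ := exists_both_ne_zero hu hw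
  have e1 : bil u z = 1 := (zmod_two _).resolve_left hz
  have e2 : bil z w = 1 := (zmod_two _).resolve_left (by rw [bil_comm]; exact hz')
  exact ⟨tau (z + w) * tau (u + z), by rw [act_mul, key u z e1, key z w e2]⟩

theorem isConj_tau_iff {u : VV} (hu : u ≠ 0) (x : GG) : IsConj (tau u) x ↔ ∃ w : VV, w ≠ 0 ∧ x = tau w := by
  constructor
  · intro h
    obtain ⟨g, hg⟩ := isConj_iff.1 h
    refine ⟨act g u, ?_, by rw [← hg, conj_tau]⟩
    intro h0
    have := congrArg (act g⁻¹) h0
    rw [act_inv_act, act_zero] at this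
    exact hu this
  · rintro ⟨w, hw, rfl⟩
    obtain ⟨g, hg⟩ := vec_trans hu hw
    exact isConj_iff.2 ⟨g, by rw [conj_tau, hg]⟩

theorem index_tau : (Subgroup.centralizer ({tau v0} : Set GG)).index = 63 := by
  classical
  rw [Characters.CentralCharacter.index_centralizer_eq_card]
  have e : {w : VV // w ≠ 0} ≃ {x : GG // IsConj (tau v0) x} :=
    Equiv.ofBijective (fun w => ⟨tau w.1, (isConj_tau_iff v0_ne _).2 ⟨w.1, w.2, rfl⟩⟩)
      ⟨fun a b h => Subtype.ext (tau_inj a.2 b.2 (congrArg Subtype.val h)), fun x => by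
        obtain ⟨w, hw, hx⟩ := (isConj_tau_iff v0_ne _).1 x.2
        exact ⟨⟨w, hw⟩, Subtype.ext hx.symm⟩⟩
  rw [← Nat.card_congr e, Nat.card_eq_fintype_card]
  decide +kernel

/-! ### The element of order seven -/

/-- an element of order seven -/
def g7 : GG := ⟨Matrix.fromBlocks !![0, 0, 1; 1, 0, 1; 0, 1, 0] 0 0 !![1, 0, 1; 1, 0, 0; 0, 1, 0], by
  rw [SymplecticGroup.mem_iff]
  decide +kernel⟩

theorem g7_pow : g7 ^ 7 = 1 := by
  apply Subtype.ext
  rw [SubmonoidClass.coe_pow]
  unfold g7
  decide +kernel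

/-- a cyclic vector -/
def p0 : VV := Sum.elim ![0, 0, 1] ![0, 0, 1]

/-- the unit vectors are sums of translates of `p0` -/
theorem single_eq (j : Fin 3 ⊕ Fin 3) : ∃ c : Fin 6 → ZMod 2,
    (Pi.single j 1 : VV) = ∑ i : Fin 6, c i • act (g7 ^ (i : ℕ)) p0 := by
  have h : ∀ i : Fin 6, act (g7 ^ (i : ℕ)) p0 =
      (![Sum.elim ![0, 0, 1] ![0, 0, 1], Sum.elim ![1, 1, 0] ![1, 0, 0], Sum.elim ![0, 1, 1] ![1, 1, 0],
        Sum.elim ![1, 1, 1] ![1, 1, 1], Sum.elim ![1, 0, 1] ![0, 1, 1],
        Sum.elim ![1, 0, 0] ![1, 0, 1]] : Fin 6 → VV) i := by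
    have hs : ∀ n : ℕ, act (g7 ^ (n + 1)) p0 = act g7 (act (g7 ^ n) p0) := fun n => by
      rw [pow_succ', act_mul]
    have h0 : act (g7 ^ 0) p0 = Sum.elim ![0, 0, 1] ![0, 0, 1] := by rw [pow_zero, act_one]; rfl
    have h1 : act (g7 ^ 1) p0 = Sum.elim ![1, 1, 0] ![1, 0, 0] := by
      rw [hs 0, h0]; unfold act g7; decide +kernel
    have h2 : act (g7 ^ 2) p0 = Sum.elim ![0, 1, 1] ![1, 1, 0] := by
      rw [hs 1, h1]; unfold act g7; decide +kernel
    have h3 : act (g7 ^ 3) p0 = Sum.elim ![1, 1, 1] ![1, 1, 1] := by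
      rw [hs 2, h2]; unfold act g7; decide +kernel
    have h4 : act (g7 ^ 4) p0 = Sum.elim ![1, 0, 1] ![0, 1, 1] := by
      rw [hs 3, h3]; unfold act g7; decide +kernel
    have h5 : act (g7 ^ 5) p0 = Sum.elim ![1, 0, 0] ![1, 0, 1] := by
      rw [hs 4, h4]; unfold act g7; decide +kernel
    intro i
    fin_cases i
    exacts [h0, h1, h2, h3, h4, h5]
  simp only [h]
  revert j
  decide +kernel

theorem act_sum (g : GG) {ι : Type} (s : Finset ι) (f : ι → VV) :
    act g (∑ i ∈ s, f i) = ∑ i ∈ s, act g (f i) := by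
  unfold act
  rw [Matrix.mulVec_sum]

theorem eq_of_act_p0 {x y : GG} (hx : x * g7 = g7 * x) (hy : y * g7 = g7 * y)
    (h : act x p0 = act y p0) : x = y := by
  have hpow : ∀ z : GG, z * g7 = g7 * z → ∀ n : ℕ, act z (act (g7 ^ n) p0) = act (g7 ^ n) (act z p0) := by
    intro z hz n
    have : Commute z g7 := hz
    rw [← act_mul, ← act_mul, (this.pow_right n).eq]
  have hs : ∀ j, act x (Pi.single j 1) = act y (Pi.single j 1) := by
    intro j
    obtain ⟨c, hc⟩ := single_eq j
    rw [hc, act_sum, act_sum]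
    refine Finset.sum_congr rfl fun i _ => ?_
    rw [act_smul, act_smul, hpow x hx, hpow y hy, h]
  apply act_ext
  intro v
  have hv : v = ∑ j, v j • (Pi.single j 1 : VV) := by
    ext k
    simp [Finset.sum_apply, Pi.single_apply]
  rw [hv, act_sum, act_sum]
  exact Finset.sum_congr rfl fun j _ => by rw [act_smul, act_smul, hs]

/-- the possible images of the cyclic vector -/
theorem card_img : (Finset.univ.filter fun y : VV => bil y (act g7 y) = bil p0 (act g7 p0) ∧
    bil y (act g7 (act g7 y)) = bil p0 (act g7 (act g7 p0)) ∧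
    bil y (act g7 (act g7 (act g7 y))) = bil p0 (act g7 (act g7 (act g7 p0)))).card ≤ 7 := by
  have h2 : ∀ y, act g7 (act g7 y) = (Matrix.fromBlocks !![0, 1, 0; 0, 1, 1; 1, 0, 1] 0 0
      !![1, 1, 1; 1, 0, 1; 1, 0, 0] : Matrix (Fin 3 ⊕ Fin 3) (Fin 3 ⊕ Fin 3) (ZMod 2)) *ᵥ y := by
    intro y
    rw [← act_mul, act]
    congr 1
    rw [Submonoid.coe_mul]
    unfold g7
    decide +kernel
  have h3 : ∀ y, act g7 (act g7 (act g7 y)) = (Matrix.fromBlocks !![1, 0, 1; 1, 1, 1; 0, 1, 1] 0 0
      !![0, 1, 1; 1, 1, 1; 1, 0, 1] : Matrix (Fin 3 ⊕ Fin 3) (Fin 3 ⊕ Fin 3) (ZMod 2)) *ᵥ y := by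
    intro y
    rw [h2 y, act, Matrix.mulVec_mulVec]
    congr 1
    unfold g7
    decide +kernel
  simp only [h3]
  simp only [h2]
  unfold act g7
  decide +kernel

theorem card_cent : Nat.card (Subgroup.centralizer ({g7} : Set GG)) = 7 := by
  classical
  have hle : Nat.card (Subgroup.centralizer ({g7} : Set GG)) ≤ 7 := by
    refine le_trans ?_ card_img
    rw [← Fintype.card_subtype, ← Nat.card_eq_fintype_card]
    refine Nat.card_le_card_of_injective (fun x : Subgroup.centralizer ({g7} : Set GG) =>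
      (⟨act x.1 p0, ?_⟩ : {y : VV // bil y (act g7 y) = bil p0 (act g7 p0) ∧
        bil y (act g7 (act g7 y)) = bil p0 (act g7 (act g7 p0)) ∧
        bil y (act g7 (act g7 (act g7 y))) = bil p0 (act g7 (act g7 (act g7 p0)))})) ?_
    · have hx : x.1 * g7 = g7 * x.1 := (Subgroup.mem_centralizer_singleton_iff.1 x.2)
      have h1 : ∀ v, act g7 (act x.1 v) = act x.1 (act g7 v) := fun v => by
        rw [← act_mul, ← act_mul, hx]
      refine ⟨?_, ?_, ?_⟩
      · rw [h1, bil_act]
      · rw [h1, h1, bil_act]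
      · rw [h1, h1, h1, bil_act]
    · intro x y hxy
      have h2 : act x.1 p0 = act y.1 p0 := congrArg Subtype.val hxy
      exact Subtype.ext (eq_of_act_p0 (Subgroup.mem_centralizer_singleton_iff.1 x.2)
        (Subgroup.mem_centralizer_singleton_iff.1 y.2) h2)
  have : Fact (Nat.Prime 7) := ⟨by norm_num⟩
  have h7 : orderOf g7 = 7 := orderOf_eq_prime g7_pow (by
    intro h
    have h1 : act g7 p0 = p0 := by rw [h, act_one]
    revert h1
    unfold act g7 p0
    decide +kernel)
  have hdvd : 7 ∣ Nat.card (Subgroup.centralizer ({g7} : Set GG)) := by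
    have h1 : g7 ∈ Subgroup.centralizer ({g7} : Set GG) := Subgroup.mem_centralizer_singleton_iff.2 rfl
    have h2 := orderOf_dvd_natCard (⟨g7, h1⟩ : Subgroup.centralizer ({g7} : Set GG))
    rwa [Subgroup.orderOf_mk, h7] at h2
  obtain ⟨k, hk⟩ := hdvd
  have hpos : 0 < Nat.card (Subgroup.centralizer ({g7} : Set GG)) := Nat.card_pos
  omega

theorem g7_ne : g7 ≠ 1 := by
  intro h
  have h1 := card_cent
  rw [h] at h1
  have h2 : Subgroup.centralizer ({(1 : GG)} : Set GG) = ⊤ := by
    rw [eq_top_iff]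
    intro x _
    rw [Subgroup.mem_centralizer_singleton_iff, mul_one, one_mul]
  rw [h2, Subgroup.card_top] at h1
  have h3 := (Subgroup.centralizer ({tau v0} : Set GG)).index_mul_card
  rw [index_tau, h1] at h3
  have := Nat.pos_of_ne_zero (Nat.card_pos (α := Subgroup.centralizer ({tau v0} : Set GG))).ne'
  omega

/-! ### The main theorem -/

theorem center_quot_bijective {m : ℕ} {F : Type} [Field F] [Fintype F] (hF : Fintype.card F = 2)
    (hm : 1 ≤ m) :
    Function.Bijective (QuotientGroup.mk' (Subgroup.center (Matrix.symplecticGroup (Fin m) F))) := by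
  refine ⟨?_, QuotientGroup.mk'_surjective _⟩
  rw [← MonoidHom.ker_eq_bot_iff, QuotientGroup.ker_mk']
  have h1 := Cfsg.Agent.S0246.result (F := F) hF m hm
  rw [show Nat.gcd 2 (2 - 1) = 1 from rfl] at h1
  exact Subgroup.card_eq_one.1 h1

/-- Change of the field of two elements. -/
theorem exists_equiv {F : Type} [Field F] [Fintype F] (hF : Fintype.card F = 2) :
    Nonempty (Matrix.symplecticGroup (Fin 3) F ≃* GG) := by
  have h2 : Fintype.card F = Fintype.card (ZMod 2) := by rw [hF, ZMod.card]
  let e : F ≃+* ZMod 2 := FiniteField.ringEquivOfCardEq h2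
  let E : Matrix (Fin 3 ⊕ Fin 3) (Fin 3 ⊕ Fin 3) F ≃+* Matrix (Fin 3 ⊕ Fin 3) (Fin 3 ⊕ Fin 3) (ZMod 2) :=
    e.mapMatrix
  have hJ : E (Matrix.J (Fin 3) F) = Matrix.J (Fin 3) (ZMod 2) := by
    change (Matrix.J (Fin 3) F).map e = _
    rw [Matrix.J, Matrix.J, Matrix.fromBlocks_map]
    congr 1 <;> ext i j <;> simp [Matrix.one_apply, apply_ite e]
  have hmem : ∀ A, E A ∈ Matrix.symplecticGroup (Fin 3) (ZMod 2) ↔
      A ∈ Matrix.symplecticGroup (Fin 3) F := by
    intro A
    rw [SymplecticGroup.mem_iff, SymplecticGroup.mem_iff, ← hJ]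
    have hT : (E A)ᵀ = E Aᵀ := rfl
    rw [hT, ← map_mul, ← map_mul]
    exact E.injective.eq_iff
  exact ⟨{ toFun := fun A => ⟨E A.1, (hmem _).2 A.2⟩
           invFun := fun B => ⟨E.symm B.1, (hmem _).1 (by rw [E.apply_symm_apply]; exact B.2)⟩
           left_inv := fun A => Subtype.ext (E.symm_apply_apply A.1)
           right_inv := fun B => Subtype.ext (E.apply_symm_apply B.1)
           map_mul' := fun A B => Subtype.ext (map_mul E A.1 B.1) }⟩

end Cfsg.Agent.H699.SpSix
end

private theorem dce_9a10bedb50c9 : _root_.True := by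
  try have : _root_.True := by simp only [_root_.Cfsg.Agent.H699.SpSix.bil.eq_1]
  try have : _root_.True := by simp only [_root_.Cfsg.Agent.H699.SpSix.nz.eq_1]
  try have : _root_.True := by simp only [_root_.Cfsg.Agent.H699.SpSix.act.eq_1]
  try have : _root_.True := by simp only [_root_.Cfsg.Agent.H699.SpSix.tau.eq_1]
  exact _root_.True.intro
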